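import Cfsg.Agent.J4C.Cert

set_option autoImplicit false
set_option Elab.async false
set_option maxRecDepth 100000
set_option linter.all false

namespace Cfsg.Agent.J4C.A
open Cfsg.Agent.CGT

noncomputable def dF0 : BT Fct := (.node 21 (.node 10 (.node 5 (.node 2 (.node 1 (.leaf ⟨0, 0, false, [4], [], []⟩) (.leaf ⟨0, 0, false, [6], [], []⟩)) (.node 1 (.leaf ⟨0, 0, false, [8], [], []⟩) (.node 1 (.leaf ⟨0, 0, false, [10], [], []⟩) (.leaf ⟨0, 0, false, [12], [], []⟩)))) (.node 2 (.node 1 (.leaf ⟨0, 0, false, [14], [], []⟩) (.leaf ⟨0, 0, false, [18], [], []⟩)) (.node 1 (.leaf ⟨0, 1, true, [], [], []⟩) (.node 1 (.leaf ⟨1, 1, false, [19], [], [0, 1]⟩) (.leaf ⟨1, 1, false, [5, 10, 12, 4, 10, 7], [], [0, 0, 9]⟩))))) (.node 5 (.node 2 (.node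 1 (.leaf ⟨1, 1, true, [5, 6, 0, 14, 18, 0, 14], [19, 0, 19, 10, 9, 19, 11, 0], [1, -11, -17, -1]⟩) (.leaf ⟨1, 2, true, [2, 0, 3], [], []⟩)) (.node 1 (.leaf ⟨2, 2, false, [15, 8, 0, 12, 6, 9, 18, 14], [], [0, 9, -27]⟩) (.node 1 (.leaf ⟨2, 2, false, [18], [], []⟩) (.leaf ⟨2, 2, true, [11, 8, 11, 6, 16, 10, 18], [18, 9, 14, 7, 9, 6], [1, -4, -18, -1]⟩)))) (.node 3 (.node 1 (.leaf ⟨2, 2, true, [9, 13, 10, 19, 16, 4, 2, 0], [12, 11, 12, 11, 9, 6, 15, 2], [1, -4, 11, -1]⟩) (.node 1 (.leaf ⟨2, 1, true, [12, 16, 0, 19, 14, 18, 0, 7], [4, 8, 0, 4, 9, 6, 11, 12], [2, -19, -6, -2]⟩) (.leaf ⟨2, 2, false, [16, 12, 7, 18, 8, 5, 2], [], [-3, 24, 33, 2]⟩))) (.node 1 (.leaf ⟨2, 1, true, [9, 14, 3, 17, 7, 11, 2], [16, 12, 6, 17, 0, 17, 9], [8, -71,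 -99, -6]⟩) (.node 1 (.leaf ⟨2, 2, false, [16, 6, 14, 7, 0, 16, 7], [], [-9, 77, 126, 6]⟩) (.leaf ⟨2, 2, false, [11, 18, 17, 7, 19, 7, 3, 0], [], [-6, 66, 155, 4]⟩)))))) (.node 11 (.node 5 (.node 2 (.node 1 (.leaf ⟨1, 3, true, [3], [], []⟩) (.leaf ⟨3, 3, false, [7, 3, 10, 14, 6, 5, 19], [], [0, 8, -21]⟩)) (.node 1 (.leaf ⟨3, 3, true, [16, 10, 18, 5, 18, 10, 2], [8, 14, 18, 4, 10, 3, 8], [1, -7, -26, -1]⟩) (.node 1 (.leaf ⟨3, 3, true, [13, 18, 14, 12, 10, 13, 19], [5, 3, 19, 4, 19, 11, 17], [-2, -1, 47, 1]⟩) (.leaf ⟨3, 3, false, [12, 14, 9, 14, 9, 13], [], [0, -3, 30]⟩)))) (.node 3 (.node 1 (.leaf ⟨3, 1, true, [9, 4, 2, 7, 17, 10, 12, 19], [13, 8, 15, 7, 18, 6, 15], [2, -13, -26, -2]⟩) (.node 1 (.leaf ⟨3, 3, false, [0, 12, 7, 4, 16,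 5, 10], [], [-3, 22, 16, 2]⟩) (.leaf ⟨3, 3, true, [7, 14, 13, 14, 5, 12, 15, 2], [16, 8, 16, 7, 18, 10, 12, 2], [4, -25, -25, -3]⟩))) (.node 1 (.leaf ⟨3, 3, false, [6, 4, 16, 6, 14, 5, 3], [], [-3, 17, 51, 2]⟩) (.node 1 (.leaf ⟨3, 3, false, [7, 3, 7, 15, 8, 16, 19], [], [-3, 19, -7, 2]⟩) (.leaf ⟨3, 3, false, [5, 12, 0, 17, 7, 8, 2], [], [0, 10, 46]⟩))))) (.node 5 (.node 2 (.node 1 (.leaf ⟨2, 3, true, [16, 5, 17, 0, 13, 11, 12, 2], [2, 6, 10, 13, 18, 4, 16, 3], [7, -79, -156, -5]⟩) (.leaf ⟨3, 2, true, [19, 12, 18, 7, 11, 17, 10], [8, 17, 0, 14, 9, 14, 18, 14], [-8, 71, 177, 5]⟩)) (.node 1 (.leaf ⟨2, 4, true, [18, 0, 8, 17, 2, 17, 11], [], []⟩) (.node 1 (.leaf ⟨4, 4, false, [6, 14, 3, 17, 15, 6, 8], [], [-3, 28, 40, 2]⟩) (.leaf ⟨4,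 4, false, [16, 8, 14, 5, 19, 0, 10, 3], [], [9, -71, -116, -6]⟩)))) (.node 3 (.node 1 (.leaf ⟨4, 4, false, [9, 0, 12, 4, 7, 18, 14], [], [-9, 91, 133, 6]⟩) (.node 1 (.leaf ⟨4, 2, true, [9, 7, 17, 10, 12, 0, 11, 0], [18, 17, 7, 16, 3, 17, 9, 2], [2, -12, -42, -2]⟩) (.leaf ⟨4, 4, false, [11, 7, 8, 6, 14, 5, 11], [], [-6, 27, 109, 4]⟩))) (.node 1 (.leaf ⟨4, 4, true, [13, 19, 14, 6, 10, 19, 17], [18, 10, 7, 14, 11, 7, 15, 3], [-11, 100, 111, 7]⟩) (.node 1 (.leaf ⟨4, 3, true, [15, 13, 19, 6, 18, 6, 8, 3], [0, 15, 17, 6, 10, 15, 13, 3], [-2, -33, 20, 2, -1]⟩) (.leaf ⟨2, 5, true, [0, 9, 18, 11, 6, 9, 5], [], []⟩)))))))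
noncomputable def dF43 : BT Fct := (.node 21 (.node 10 (.node 5 (.node 2 (.node 1 (.leaf ⟨5, 5, false, [18, 0, 10, 19, 5, 19, 4], [], [24, -223, -345, -16]⟩) (.leaf ⟨5, 5, false, [11, 16, 10, 6, 19, 5, 8, 0], [], [-12, 132, 204, 8]⟩)) (.node 1 (.leaf ⟨5, 5, false, [15, 0, 17, 8, 2, 16, 18], [], [12, -77, -204, -8]⟩) (.node 1 (.leaf ⟨5, 4, true, [6, 18, 6, 14, 19, 11, 13, 3], [10, 0, 9, 4, 19, 7, 4], [-26, 231, 391, 17]⟩) (.leaf ⟨3, 1, true, [17, 7, 18, 14, 12, 16], [17, 9, 6, 15, 4, 10, 18, 13], [-5, 45, 165, 4, -1]⟩)))) (.node 2 (.node 1 (.leaf ⟨3, 3, false, [7, 8, 7, 7, 4, 17, 18, 0], [], [4, -33, -140, -4, 1]⟩) (.leaf ⟨3, 6, true, [4, 6, 5, 10, 17, 13, 16, 3], [], []⟩)) (.node 1 (.leaf ⟨6, 6, false, [0, 15, 11, 4, 9, 12, 16, 3],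 [], [-3, 10, -56, 2]⟩) (.node 1 (.leaf ⟨6, 6, false, [10, 14, 16, 6, 18, 9, 3], [], [-5, 27, -72, 2, 1]⟩) (.leaf ⟨6, 6, false, [18, 2, 7, 18, 0, 17, 12, 0], [], [4, -38, -109, -4, 1]⟩))))) (.node 5 (.node 2 (.node 1 (.leaf ⟨4, 6, true, [10, 0, 9, 5, 11, 14, 7, 2], [2, 18, 0, 14, 18, 7, 7, 19], [1, -47, -97, -1]⟩) (.leaf ⟨2, 7, true, [2], [], []⟩)) (.node 1 (.leaf ⟨7, 7, false, [0], [], [3, -29, -59, -2]⟩) (.node 1 (.leaf ⟨7, 5, true, [13, 3, 10, 5, 13, 4, 19, 3], [12, 14, 6, 8, 0, 19, 0, 4], [1, -10, -16, -1]⟩) (.leaf ⟨5, 7, true, [7, 19, 14, 17, 5, 12, 16], [6, 16, 15, 11, 15, 5, 18, 0], [22, -254, -392, -15]⟩)))) (.node 3 (.node 1 (.leaf ⟨7, 3, true, [18, 10, 16, 3, 16, 0, 11, 0], [17, 10, 13, 7, 19, 8, 5], [-1, -10, -47]⟩) (.node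 1 (.leaf ⟨3, 7, true, [16, 5, 18, 14, 18, 13, 4, 0], [6, 11, 18, 10, 7, 8, 17, 2], [3, -22, -15, -2]⟩) (.leaf ⟨7, 4, true, [17, 6, 17, 2, 15, 13, 14], [8, 3, 4, 15, 18, 5, 10], [-35, 404, 560, 23]⟩))) (.node 1 (.leaf ⟨4, 7, true, [7, 7, 14, 9, 0, 17, 11, 3], [15, 12, 14, 3, 16, 7, 16], [31, -405, -491, -21]⟩) (.node 1 (.leaf ⟨7, 6, true, [13, 2, 5, 17, 14, 19, 14], [2, 10, 17, 11, 9, 6, 12], [-2, 22, -21, 1]⟩) (.leaf ⟨6, 4, true, [13, 9, 6, 16, 3, 0], [7, 9, 5, 6, 18, 6, 16], [-29, 391, 609, 19]⟩)))))) (.node 11 (.node 5 (.node 2 (.node 1 (.leaf ⟨6, 6, false, [6, 18, 15, 10, 4, 7, 8, 3], [], [39, -464, -676, -26]⟩) (.leaf ⟨3, 8, true, [4, 8, 6, 5, 13, 7, 3], [], []⟩)) (.node 1 (.leaf ⟨8, 8, false, [18, 4, 14, 5, 7, 18, 14], [], [0,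 7, 38]⟩) (.node 1 (.leaf ⟨8, 8, false, [16, 10, 18, 18, 11, 17], [], [12, -75, 0, -8]⟩) (.leaf ⟨8, 8, false, [12, 3, 10, 4, 9, 14, 16], [], [6, -25, 10, -4]⟩)))) (.node 3 (.node 1 (.leaf ⟨8, 4, true, [14, 13, 10, 18, 7, 7, 9], [15, 10, 18, 12, 6], [-8, 89, 94, 5]⟩) (.node 1 (.leaf ⟨6, 8, true, [12, 16, 14, 10, 8, 6, 4], [9, 19, 10, 17, 4, 10, 9, 2], [10, -94, -52, -7]⟩) (.leaf ⟨8, 8, false, [7, 4, 10, 6, 0, 17, 9, 2], [], [37, -456, -763, -26, 1]⟩))) (.node 1 (.leaf ⟨1, 1, false, [], [], [0, -4]⟩) (.node 1 (.leaf ⟨1, 1, false, [], [], [0, 0, -54]⟩) (.leaf ⟨1, 1, false, [], [], [0, 6, 54]⟩))))) (.node 5 (.node 2 (.node 1 (.leaf ⟨1, 1, false, [], [], [0, -4, 18]⟩) (.leaf ⟨1, 1, false, [], [], [0, -5, 9]⟩)) (.node 1 (.leaf ⟨2, 2, false,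 [], [], [36, -308, -504, -24]⟩) (.node 1 (.leaf ⟨2, 2, false, [], [], [18, -136, -306, -12]⟩) (.leaf ⟨2, 2, false, [], [], [-12, 150, 256, 8]⟩)))) (.node 3 (.node 1 (.leaf ⟨2, 2, false, [], [], [-18, 194, 376, 12]⟩) (.node 1 (.leaf ⟨2, 2, false, [], [], [-3, 11, -29, 2]⟩) (.leaf ⟨3, 3, false, [], [], [-16, 132, 560, 16, -4]⟩))) (.node 1 (.leaf ⟨3, 3, false, [], [], [2, -22, -257, -4, 2]⟩) (.node 1 (.leaf ⟨6, 6, false, [], [], [38, -475, -857, -28, 2]⟩) (.leaf ⟨8, 8, false, [], [], [135, -1525, -2327, -94, 3]⟩)))))))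
noncomputable def dd : Dce := ⟨12, m_ts, [3, 2, 1, 0], [], [], [-1], [[19], [1]], [[19], [1]], [[0, 1], [0, 0, 1]], [[[10, 8, 11], [10, 8, 11], [11, 0, 7, 8, 2, 6, 0]], [[18, 16, 11, 8, 0], [3, 8, 12, 14, 17, 8], [18, 16, 11, 8, 0], [11, 14, 0, 2, 10, 8, 13, 3, 4, 0]], [[], []]], [[0, 0, 0, 1], [0, 0, 0, 0, 1], [1]], (.node 43 dF0 dF43), [0, 7, 11, 21, 34, 42, 49, 54, 65], []⟩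
theorem dd_c0 : dd.checks [⟨1, [], 0, 0, []⟩, ⟨1, [], 0, 0, []⟩, ⟨1, [], 0, 0, []⟩, ⟨1, [], 0, 0, []⟩, ⟨1, [], 0, 0, []⟩, ⟨1, [], 0, 0, []⟩, ⟨1, [], 0, 0, []⟩, ⟨0, [], 0, 0, []⟩, ⟨3, [14, 13, 3, 10, 11, 2, 15], 2, 0, [[], [0]]⟩, ⟨3, [14, 3, 6, 1, 1, 8, 6, 1, 15], 2, 0, [[], [0, 0, 2, 0, 2, 1, 2, 1, 2, 1, 2, 1, 2, 1, 2, 0, 0, 2, 0, 2, 1]]⟩, ⟨2, [16, 14, 3, 11, 5, 0, 15], 0, 1, [[], [1, 2, 1, 2, 1, 2, 0, 0, 2, 0, 2, 0, 2, 0, 0, 2, 0, 2], [0, 0, 2, 1, 2, 0, 2, 0, 0, 2, 0, 2, 0, 2, 0, 2, 1, 2, 1, 2, 0]]⟩, ⟨0, [], 0, 0, []⟩, ⟨3, [22, 18, 17, 19, 19, 19, 19, 16, 19, 23], 2, 0, [[], [2, 0, 2, 0, 2, 0, 2, 1, 2, 0, 2, 0, 0, 2, 0, 2, 0, 2, 0, 0]]⟩, ⟨3, [22, 19, 18, 16, 23], 2, 0, [[], [1]]⟩, ⟨2, [22, 18, 18, 17, 17, 19, 19, 23], 0, 1, [[],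 [0, 0, 2, 1, 2, 1, 2, 0, 0, 2, 0, 0, 2, 0, 0, 2, 1, 2, 1, 2, 0, 0, 2, 1], [0, 2, 0, 0, 2, 1, 2, 1, 2, 0, 2, 0, 2, 1, 2, 1, 2, 1, 2, 0]]⟩, ⟨2, [26, 22, 19, 19, 19, 23], 0, 1, [[], [0, 2, 1, 2, 1, 2, 1, 2, 0, 0, 2, 0, 0, 2, 1, 2, 1, 2, 0, 2, 1], [1, 2, 0, 0, 2, 0, 2, 1, 2, 0, 0, 2, 1, 2, 0, 2, 0]]⟩, ⟨2, [22, 19, 19, 16, 19, 21], 0, 1, [[], [1, 2, 1, 2, 0, 0, 2, 0, 2, 1, 2, 0, 0, 2, 1, 2, 0, 0], [1, 2, 0, 0, 2, 0, 2, 0, 2, 1, 2, 1, 2, 1, 2, 0, 0, 2, 0, 2, 0]]⟩, ⟨3, [33, 18, 16, 18, 23], 2, 0, [[], [0, 0, 2, 0, 2, 1, 2, 0, 2, 1, 2, 1, 2, 1, 2, 0, 0, 2, 0, 2, 0]]⟩, ⟨2, [34, 34, 22, 19, 17, 18, 21], 0, 1, [[], [2, 0, 0, 2, 0, 2, 0, 2, 0, 0, 2, 0, 0, 2, 0, 0, 2, 0, 2, 1, 2, 1], [1, 2, 0, 2, 0, 0, 2, 0, 0, 2, 0, 2, 0, 2, 1, 2, 1]]⟩, ⟨3,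 [37, 17, 18, 18, 23], 2, 0, [[], [1, 2, 0, 2, 0, 0, 2, 1, 2, 0, 2, 0, 2, 0, 0, 2, 0, 2, 1, 2, 0, 0]]⟩, ⟨3, [22, 18, 18, 18, 23, 35, 38, 30], 0, 0, [[0, 2, 1, 2, 0, 2, 0, 2, 0, 0, 2, 1, 2, 0, 0, 2, 1], [1, 2, 1, 2, 0, 2, 0, 0, 2, 0, 0, 2, 1, 2, 1, 2, 0, 0, 2], [1, 2, 0, 0, 2, 0, 2, 0, 2, 0, 0, 2, 0, 0, 2, 0, 0, 2, 0, 2, 0, 2, 1]]⟩, ⟨0, [], 0, 0, []⟩, ⟨3, [42, 18, 19, 19, 19, 19, 43], 2, 0, [[], [0, 2, 0, 0, 2, 0, 2, 1, 2, 0, 0, 2, 0, 2, 0, 0]]⟩, ⟨2, [42, 17, 17, 19, 17, 18, 18, 16, 43], 0, 1, [[], [0, 2, 1, 2, 1, 2, 0, 2, 1, 2, 0, 2, 0, 0, 2, 0, 2, 0], [0, 2, 0, 2, 0, 0, 2, 0, 2, 0, 2, 1, 2, 1, 2, 0, 2, 1, 2, 0]]⟩, ⟨3, [47, 45], 2, 0, [[], []]⟩, ⟨3, [46, 45, 47], 2, 0, [[], [2, 1, 2, 0, 2, 1, 2, 1, 2, 0, 0, 2, 0, 0, 2, 0, 0, 2, 1,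 2, 0, 0]]⟩, ⟨2, [42, 17, 17, 19, 21], 0, 1, [[], [1, 2, 1, 2, 1, 2, 1, 2, 0, 2, 0, 0, 2, 1, 2, 0, 2, 0, 2, 1], [1, 2, 0, 2, 1, 2, 1, 2, 0, 0, 2, 0, 2, 0, 2, 1, 2, 0, 0, 2, 0, 0]]⟩, ⟨3, [53, 19, 16, 19, 43], 2, 0, [[], [0, 2, 0, 2, 0, 2, 0, 2, 0, 2, 0, 2, 0, 2, 0, 2]]⟩, ⟨2, [54, 42, 17, 19, 17, 18, 17, 19, 17, 17, 43], 0, 1, [[], [1, 2, 0, 2, 0, 2, 0, 2, 0, 2, 1, 2, 1, 2, 0, 2, 0, 2], [0, 2, 1, 2, 0, 0, 2, 0, 2, 0, 2, 1, 2, 1, 2, 0, 0, 2, 0, 2]]⟩, ⟨3, [48, 44, 42, 17, 19, 16, 16, 18, 16, 43], 0, 0, [[2, 1, 2, 0, 2, 0, 2, 1, 2, 1, 2, 0, 0, 2, 1, 2, 1, 2, 1, 2], [1, 2, 0, 0, 2, 0, 0, 2, 1, 2, 1, 2, 0, 0, 2, 0, 2, 1], [0, 2, 0, 0, 2, 0, 2, 1, 2, 1, 2, 0, 0, 2, 0, 2, 0, 0, 2]]⟩, ⟨3, [57, 59, 55, 57], 2, 0, [[], [2, 0, 2, 0, 2, 0, 2, 0,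 0, 2, 0, 2, 0, 0, 2, 0, 2, 1, 2, 1, 2, 0]]⟩, ⟨3, [46, 50, 42, 16, 16, 18, 18, 18, 16, 16, 19, 43], 0, 0, [[1, 2, 0, 2, 0, 0, 2, 1, 2, 0, 2, 1, 2, 0, 2, 0, 2, 0, 2, 1], [0, 2, 1, 2, 0, 0, 2, 1, 2, 0, 0, 2, 0, 0, 2, 0, 2, 0, 2, 1], [0, 0, 2, 0, 0, 2, 0, 0, 2, 0, 0, 2, 1, 2, 1, 2, 0, 2]]⟩, ⟨2, [27, 40, 22, 19, 19, 17, 43], 0, 2, [[], [2, 0, 0, 2, 1, 2, 1, 2, 0, 2, 0, 0, 2, 0, 2, 0, 2, 0, 0, 2, 0, 0], [1, 2, 0, 2, 0, 0, 2, 0, 2, 0, 2, 1, 2, 0, 2, 1, 2, 0, 2, 0, 2]]⟩, ⟨3, [65, 45], 2, 0, [[], []]⟩, ⟨0, [], 0, 0, []⟩, ⟨3, [68, 38, 25, 26, 34, 39, 24, 69], 2, 0, [[], [0, 0, 2, 0, 2, 0, 2, 1, 2, 1, 2, 0, 2, 0, 0, 2, 1]]⟩, ⟨3, [68, 38, 27, 39, 27, 24, 39, 25, 69], 2, 0, [[], [0, 2, 0, 2, 1, 2, 1, 2, 0, 0, 2, 0, 0, 2, 1, 2, 0, 2, 1, 2, 0,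 0, 2, 0]]⟩, ⟨3, [68, 41, 26, 38, 40, 69], 2, 0, [[], [0, 0, 2, 0, 0, 2, 0, 2, 0, 0, 2, 0, 0, 2, 0, 2, 0, 0, 2, 0, 0]]⟩, ⟨2, [70, 68, 35, 29], 0, 1, [[], [0, 2, 0, 0, 2, 1, 2, 1, 2, 1, 2, 1, 2, 0, 2, 1, 2, 0, 0], [0, 2, 1, 2, 0, 2, 0, 2, 0, 2, 0, 2, 1, 2, 0, 2, 1, 2]]⟩, ⟨3, [77, 34, 25, 69], 2, 0, [[], [0, 2, 1, 2, 0, 2, 1, 2, 1, 2, 0, 2, 1, 2, 0]]⟩, ⟨2, [71, 72, 68, 25, 69], 0, 1, [[], [0, 2, 0, 0, 2, 1, 2, 1, 2, 0, 0, 2, 0, 0, 2, 1, 2, 0, 2, 1, 2], [1, 2, 0, 0, 2, 0, 0, 2, 0, 2, 0, 2, 1, 2, 1, 2, 0, 2, 0, 2, 1]]⟩, ⟨2, [70, 74, 79, 68, 39, 22, 18, 18, 16, 18, 16, 19, 43], 1, 1, [[], [1, 2, 1, 2, 1, 2, 0, 2, 0, 0, 2, 0, 0, 2, 0, 2, 0, 0, 2, 0, 0, 2], [0, 2, 0, 0, 2, 0, 2, 1, 2, 0, 2, 0, 0, 2, 1], [0, 2, 1, 2, 0, 2, 1, 2, 0, 0, 2,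 0, 2, 0, 2, 0, 2, 1, 2]]⟩, ⟨0, [], 0, 0, []⟩, ⟨3, [84, 35, 35, 41, 27, 35, 39, 25, 85], 2, 0, [[], [2, 1, 2, 1, 2, 0, 0, 2, 1, 2, 1, 2, 0, 0, 2, 0, 0, 2, 1]]⟩, ⟨3, [84, 38, 27, 24, 40, 35, 24, 85], 2, 0, [[], [2, 1, 2, 1, 2, 1, 2, 1, 2, 1, 2, 0, 2, 1, 2, 0, 2, 1, 2]]⟩, ⟨3, [84, 26, 39, 24, 35, 24, 85], 2, 0, [[], [0, 2, 0, 2, 0, 0, 2, 0, 0, 2, 0, 2, 1, 2, 0, 0, 2, 1, 2, 1, 2]]⟩, ⟨2, [86, 84, 35, 24, 69], 0, 1, [[], [0, 0, 2, 1, 2, 1, 2, 1, 2, 1, 2, 1, 2], [2, 1, 2, 0, 0, 2, 0, 2, 0, 2, 0, 0, 2, 0, 0, 2, 0, 0, 2, 0]]⟩, ⟨2, [67, 22, 19, 17, 19, 16, 19, 21], 1, 0, [[], [1, 2, 0, 2, 0, 0, 2, 0, 0, 2, 1, 2, 0, 0, 2, 1], [1, 2, 0, 2, 0, 2, 0, 0, 2, 0, 0, 2, 1, 2, 1, 2, 0, 0], [1, 2, 1, 2, 0, 0, 2, 0, 2, 1, 2, 0, 0, 2, 0, 0, 2, 0, 2, 0,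 2]]⟩, ⟨3, [95, 16, 18, 18, 16, 18, 17, 19, 43], 2, 0, [[], [0, 0, 2, 0, 0, 2, 0, 0, 2, 0, 0, 2, 0, 2, 1, 2, 0, 0, 2, 0]]⟩, ⟨0, [], 0, 0, []⟩, ⟨3, [98, 51, 60, 63, 45, 99], 2, 0, [[], [0, 0, 2, 0, 2, 0, 2, 0, 2, 0, 2, 1, 2, 0]]⟩, ⟨3, [98, 58, 96, 60, 54, 99], 2, 0, [[], [1, 2, 0, 0, 2, 0, 2, 0, 2, 0, 2, 1, 2, 1, 2, 0, 2, 1]]⟩, ⟨3, [98, 96, 45, 99], 2, 0, [[], [0, 2, 0, 2, 0, 2, 1, 2, 1, 2, 0, 2, 1, 2, 1, 2, 0, 2, 0, 2, 0]]⟩, ⟨2, [71, 83, 97, 99], 0, 2, [[], [2, 1, 2, 0, 0, 2, 0, 0, 2, 1, 2, 0, 2, 0, 2, 0, 0, 2, 1, 2, 0, 0], [0, 0, 2, 0, 2, 1, 2, 0, 2, 1, 2, 0, 2, 1, 2, 0, 2, 1]]⟩, ⟨0, [], 0, 0, []⟩, ⟨3, [108, 39, 25, 24, 34, 27, 34, 27, 27, 109], 2, 0, [[], [2]]⟩, ⟨2, [108, 85], 0, 1, [[], [0, 2, 1, 2, 1, 2, 1, 2, 1, 2, 0, 2, 0, 0,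 2, 0, 2, 0, 0, 2], [0, 0, 2, 0, 2, 1, 2, 1, 2, 0, 0, 2, 0, 0, 2, 0, 2, 0]]⟩, ⟨3, [113, 89, 89], 2, 0, [[], []]⟩, ⟨2, [108, 39, 27, 65], 0, 1, [[], [2, 0, 0, 2, 1, 2, 0, 2, 0, 2, 1, 2, 0, 2, 0, 0, 2, 1, 2], [1, 2, 0, 0, 2, 0, 0, 2, 1, 2, 0, 2, 1, 2, 1, 2, 0, 2, 0, 0]]⟩, ⟨3, [117, 63, 55], 2, 0, [[], []]⟩, ⟨2, [114, 91, 93], 0, 1, [[], [0, 2, 0, 2, 0, 0, 2, 0, 2, 1, 2, 1, 2, 0, 0, 2, 0, 2, 0, 2, 1], [0, 2, 1, 2, 1, 2, 1, 2, 1, 2, 1, 2, 1, 2, 1, 2, 0, 0, 2, 0, 2, 0]]⟩, ⟨3, [121, 78, 71], 2, 0, [[], []]⟩, ⟨2, [118, 45, 99], 0, 1, [[], [2, 1, 2, 1, 2, 0, 0, 2, 1, 2, 0, 0, 2, 0, 0, 2], [1, 2, 0, 0, 2, 0, 0, 2, 1, 2, 1, 2, 0, 2, 0, 0, 2, 1, 2, 0, 0]]⟩, ⟨2, [100, 124, 110, 122], 0, 2, [[], [1, 2, 1, 2, 0, 2, 1, 2, 0, 0, 2, 0, 0, 2, 0, 2,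 0, 0, 2, 0], [2, 1, 2, 0, 2, 0, 2, 0, 2, 0, 0, 2, 0, 2, 0, 2, 1, 2, 1, 2, 0]]⟩, ⟨3, [127, 75, 71, 107], 2, 0, [[], [0, 2, 1, 2, 1, 2, 1, 2, 1, 2, 0, 0, 2, 0, 2, 1, 2, 1, 2, 0]]⟩, ⟨0, [], 0, 0, []⟩, ⟨3, [130, 50, 131], 2, 0, [[], [1, 2, 1, 2, 0, 0, 2, 0, 2, 0, 0, 2, 0, 0, 2, 0, 2, 0, 0, 2, 0, 0]]⟩, ⟨3, [130, 55, 61, 50, 44, 61, 55, 131], 2, 0, [[], [2, 0, 0, 2, 1, 2, 1, 2, 0, 2, 1, 2, 0, 2, 1, 2, 0, 2, 0]]⟩, ⟨3, [130, 59, 45, 58, 55, 62, 59, 131], 2, 0, [[], [2, 0, 0, 2, 0, 2, 0, 2, 0, 2, 0, 2, 0, 0, 2, 0, 2, 0, 2, 0, 2, 0]]⟩, ⟨2, [136, 130, 96, 82], 0, 1, [[], [2, 1, 2, 1, 2, 1, 2, 0, 2, 0, 2, 0, 0, 2, 0, 0, 2, 0, 0], [2, 1, 2, 0, 2, 0, 2, 1, 2, 1, 2, 1, 2, 1, 2]]⟩, ⟨2, [106, 70, 138], 0, 2, [[], [0, 2, 0, 0, 2, 0, 0, 2, 0, 0, 2,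 0, 2, 0, 2, 0, 0, 2, 0, 2, 0, 0], [0, 0, 2, 0, 2, 0, 2, 0, 2, 1, 2, 0, 0, 2, 0, 0, 2, 0, 0]]⟩, ⟨3, [140, 128, 100, 106, 70, 72, 80, 71, 138], 1, 0, [[1, 2, 0, 2, 0, 0, 2, 0, 0, 2, 0, 2, 0, 2, 0, 2, 0, 0, 2, 1], [1, 2, 1, 2, 0, 2, 0, 2, 0, 0, 2, 0, 2, 0, 0, 2, 1], [2, 0, 2, 0, 2, 0, 0, 2, 0, 0, 2, 1, 2, 0, 2, 0], [0, 2, 1, 2, 0, 0, 2, 0, 2, 1, 2, 0, 2, 1, 2]]⟩, ⟨3, [17, 17, 17, 17], 3, 0, []⟩, ⟨3, [19, 19, 19, 19, 19, 19], 3, 0, []⟩, ⟨3, [18, 16, 18, 16, 18, 16, 18, 16, 18, 16, 18, 16], 3, 0, []⟩, ⟨3, [16, 18, 17, 19, 17, 18, 17, 17, 18, 17, 19, 17, 18, 16], 3, 0, []⟩, ⟨3, [16, 19, 19, 17, 17, 18, 17, 18, 17, 17, 18, 16, 18, 18, 17, 19, 17, 19], 3, 0, []⟩, ⟨3, [39, 39, 39, 39], 3, 0, []⟩, ⟨3, [39, 39, 24, 26, 24, 27], 3, 0, []⟩, ⟨3,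 [26, 40, 24, 26, 40, 24], 3, 0, []⟩, ⟨3, [40, 35, 40, 24, 35, 38, 34], 3, 0, []⟩, ⟨3, [41, 41, 38, 24, 40, 25, 26], 3, 0, []⟩, ⟨3, [97, 97, 97, 97], 3, 0, []⟩, ⟨3, [60, 96, 44, 58, 96], 3, 0, []⟩, ⟨3, [128, 128, 102, 129, 104], 3, 0, []⟩, ⟨3, [142, 142, 133, 134, 142, 134], 3, 0, []⟩] 0 86 = true := by decide +kernel
theorem dd_t : dd.kills 86 [-1, 0, 0, 1] [(2, [(-1, 81), (9990293079, 76), (-128900982010, 74), (-257801964020, 72), (168380096, 79), (-108920395852, 73), (54460197926, 75), (112248926, 78), (-4471, 80)]), (0, [(-470463303452235820590499019, 76), (6070210486994010984845709544, 74), (12140420973988021969691419088, 72), (-1358878326003, 83), (-7929362607591241915005996, 79), (5129283880089539343664711506, 73), (-2564641940044769671832355753,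 75), (47092042395348984, 81), (-5286031182024390849191184, 78), (210548521549605307464, 80), (-198, 85), (-29432700, 84), (-679453879500, 82)]), (0, [(13726043697, 83), (4752154580325614349398980, 76), (-61315257444383949341875854, 74), (-122630514888767898683751708, 72), (80094571793850928434404, 79), (-51810948283732720643077894, 73), (25905474141866360321538947, 75), (-475677195912616, 81), (53394254363882735850416, 78), (-2126752742925306136, 80), (2, 85), (297300, 84), (6863170500, 82)]), (3, [(-1, 81), (9990293079, 76), (-128900982010, 74), (-257801964020, 72), (168380096, 79), (-108920395852, 73), (54460197926, 75), (112248926, 78), (-4471, 80)]), (4, [(1, 85), (2376077290239622537895632, 76), (-30657628723183094317919716,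 74), (-61315257446366188635839432, 72), (6863021848, 83), (40047285898220138773424, 79), (-25905474142703849242128452, 73), (12952737071351924621064226, 75), (-237838597963997, 81), (26697127182804449917222, 78), (-1063376371497030587, 80), (148650, 84), (3431585250, 82)])] = true := by decide +kernel
theorem dd_up {K Γ A : Type*} [Group K] [Group Γ] [CommGroup A] {X : Ctx K Γ A} (hy : dd.Hyp X m_ns) : dd.Upto X 86 :=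
  ((Dce.Upto.zero).step hy dd_c0)

end Cfsg.Agent.J4C.A
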